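import Groth.Agent.PicCyc25.Local
import Groth.Agent.Crv77.InvMod
import Groth.Agent.Stein58.GeomConnGamma

/-! The cyclic cover of a class of exact order `d` is connected and trivialises the class. -/

set_option autoImplicit false
set_option linter.style.haveILetI false
set_option backward.isDefEq.respectTransparency.types false

universe u

open CategoryTheory CategoryTheory.Limits AlgebraicGeometry Opposite TopologicalSpace Polynomial
open Groth.Agent.Var76 Groth.Agent.Var76.LineBundle Groth.Agent.Var76.ZeroScheme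

noncomputable section

namespace Groth.Agent.PicCyc25

variable {X : Scheme.{u}}

theorem exists_affine_le {W : X.Opens} (x : X) (hx : x ∈ W) : ∃ V : X.affineOpens, x ∈ V.1 ∧ V.1 ≤ W := by
  obtain ⟨_, ⟨V, hV, rfl⟩, hxV, hVW⟩ := X.isBasis_affineOpens.exists_subset_of_mem_open hx W.isOpen
  exact ⟨⟨V, hV⟩, hxV, hVW⟩

variable {L : X.Modules} (hL : PicF.IsInvertible L) {d : ℕ}
  {σ : Γ(CohB1.tensorPow L d, ⊤)} (hσ : IsFrame (CohB1.tensorPow L d) ⊤ σ)

theorem exists_transition (i j : Chart L) (V : X.affineOpens) (hi : V.1 ≤ i.U.1) (hj : V.1 ≤ j.U.1) :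
    ∃ u : Γ(X, V.1), res L hj j.e = u • res L hi i.e ∧
      fres hi (coef hσ i : Γ(X, i.U.1)) = fres hj (coef hσ j : Γ(X, j.U.1)) * u ^ d := by
  obtain ⟨u, hu⟩ := ((i.he.res hi) V.1 le_rfl).2 (res L hj j.e)
  dsimp only at hu
  rw [Amp73.res_self] at hu
  refine ⟨u, hu.symm, ?_⟩
  have h1 := congrArg (res _ hi) (coef_spec hσ i)
  have h2 := congrArg (res _ hj) (coef_spec hσ j)
  rw [res_smul, Amp73.res_epow, res_res] at h1 h2
  rw [← hu, Amp73.epow_smul, smul_smul, ← h1] at h2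
  refine (((Amp73.isFrame_epow (i.he.res hi) d) V.1 le_rfl).1 ?_).symm
  dsimp only
  rw [Amp73.res_self]
  exact h2

theorem app_fres {U V : X.Opens} (h : V ≤ U) (a : Γ(X, U)) :
    (cov hL hσ).presheaf.map (homOfLE ((proj hL hσ).preimage_mono h)).op ((proj hL hσ).app U a) =
      (proj hL hσ).app V (fres h a) :=
  GIT36.LineBundle.app_map (proj hL hσ) h a

/-- Functions over a chart have unique coordinates. -/
theorem existsUnique_coeffs (hd : 0 < d) (i : Chart L) (G : Γ(cov hL hσ, proj hL hσ ⁻¹ᵁ i.U.1)) :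
    ∃! a : Fin d → Γ(X, i.U.1),
      ∑ k, (proj hL hσ).app i.U.1 (a k) * coord hL hσ i.e ^ (k : ℕ) = G := by
  rcases subsingleton_or_nontrivial Γ(X, i.U.1) with h | h
  · haveI := h
    haveI : Subsingleton Γ(cov hL hσ, proj hL hσ ⁻¹ᵁ i.U.1) := by
      refine subsingleton_of_zero_eq_one ?_
      rw [← map_zero ((proj hL hσ).app i.U.1).hom, ← map_one ((proj hL hσ).app i.U.1).hom]
      exact congrArg _ (Subsingleton.elim _ _)
    exact ⟨fun _ => 0, Subsingleton.elim _ _, fun _ _ => funext fun _ => Subsingleton.elim _ _⟩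
  have hdim : (AdjoinRoot.powerBasis' (monic_pol hσ hd i)).dim = d := by
    rw [AdjoinRoot.powerBasis'_dim, natDegree_X_pow_sub_C]
  let b := (AdjoinRoot.powerBasis' (monic_pol hσ hd i)).basis.reindex (finCongr hdim)
  have hb : ∀ a : Fin d → Γ(X, i.U.1), chartHom hL hσ i (b.equivFun.symm a) =
      ∑ k, (proj hL hσ).app i.U.1 (a k) * coord hL hσ i.e ^ (k : ℕ) := by
    intro a
    rw [Module.Basis.equivFun_symm_apply, map_sum]
    refine Finset.sum_congr rfl fun k _ => ?_
    rw [Algebra.smul_def, map_mul, AdjoinRoot.algebraMap_eq, chartHom_of]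
    congr 1
    rw [Module.Basis.reindex_apply, PowerBasis.coe_basis, AdjoinRoot.powerBasis'_gen, map_pow, chartHom_root]
    rfl
  obtain ⟨z, hz⟩ := (chartHom_bijective hL hσ i).2 G
  refine ⟨b.equivFun z, (hb _).symm.trans (by rw [LinearEquiv.symm_apply_apply, hz]), fun a ha => ?_⟩
  apply b.equivFun.symm.injective
  rw [LinearEquiv.symm_apply_apply]
  apply (chartHom_bijective hL hσ i).1
  rw [hb, ha, hz]

/-- Coordinates of a global function in a chart. -/
def coeffs (hd : 0 < d) (E : Γ(cov hL hσ, ⊤)) (i : Chart L) : Fin d → Γ(X, i.U.1) :=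
  Classical.choose (existsUnique_coeffs hL hσ hd i ((cov hL hσ).presheaf.map (homOfLE le_top).op E))

theorem coeffs_spec (hd : 0 < d) (E : Γ(cov hL hσ, ⊤)) (i : Chart L) :
    ∑ k, (proj hL hσ).app i.U.1 (coeffs hL hσ hd E i k) * coord hL hσ i.e ^ (k : ℕ) =
      (cov hL hσ).presheaf.map (homOfLE le_top).op E :=
  (Classical.choose_spec (existsUnique_coeffs hL hσ hd i _)).1

theorem coeffs_trans (hd : 0 < d) (E : Γ(cov hL hσ, ⊤)) (i j : Chart L) (V : X.affineOpens) (hi : V.1 ≤ i.U.1)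
    (hj : V.1 ≤ j.U.1) (u : Γ(X, V.1)) (hu : res L hj j.e = u • res L hi i.e) (k : Fin d) :
    fres hi (coeffs hL hσ hd E i k) = fres hj (coeffs hL hσ hd E j k) * u ^ (k : ℕ) := by
  let iV : Chart L := ⟨V, res L hi i.e, i.he.res hi⟩
  have key : ∀ (l : Chart L) (hl : V.1 ≤ l.U.1),
      ∑ k, (proj hL hσ).app V.1 (fres hl (coeffs hL hσ hd E l k)) * coord hL hσ (res L hl l.e) ^ (k : ℕ) =
        (cov hL hσ).presheaf.map (homOfLE le_top).op E := by
    intro l hl
    have h1 := congrArg ((cov hL hσ).presheaf.map (homOfLE ((proj hL hσ).preimage_mono hl)).op)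
      (coeffs_spec hL hσ hd E l)
    rw [map_sum] at h1
    refine Eq.trans (Eq.trans (Finset.sum_congr rfl fun m _ => ?_) h1) ?_
    · rw [map_mul, map_pow, coord_res, app_fres]
    · rw [← ConcreteCategory.comp_apply, ← Functor.map_comp]
      rfl
  have h2 : ∑ m, (proj hL hσ).app V.1 (fres hj (coeffs hL hσ hd E j m) * u ^ (m : ℕ)) *
      coord hL hσ (res L hi i.e) ^ (m : ℕ) = (cov hL hσ).presheaf.map (homOfLE le_top).op E := by
    rw [← key j hj]
    refine Finset.sum_congr rfl fun m _ => ?_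
    rw [hu, coord_smul, map_mul, map_pow, mul_pow, mul_assoc]
  exact congrFun ((existsUnique_coeffs hL hσ hd iV _).unique (key i hi) h2) k

theorem eq_of_affines {W : X.Opens} {a b : Γ(X, W)}
    (h : ∀ (V : X.affineOpens) (hV : V.1 ≤ W), fres hV a = fres hV b) : a = b := by
  refine TopCat.Sheaf.eq_of_locally_eq' X.sheaf (fun V : {V : X.affineOpens // V.1 ≤ W} => V.1.1) W
    (fun V => homOfLE V.2) (fun x hx => ?_) a b fun V => h V.1 V.2
  obtain ⟨V, hxV, hVW⟩ := exists_affine_le x hx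
  exact Opens.mem_iSup.2 ⟨⟨V, hVW⟩, hxV⟩

theorem eq_of_affines_mod (M : X.Modules) {W : X.Opens} {a b : Γ(M, W)}
    (h : ∀ (V : X.affineOpens) (hV : V.1 ≤ W), res M hV a = res M hV b) : a = b := by
  refine TopCat.Sheaf.eq_of_locally_eq' (C := AddCommGrpCat.{u}) ⟨M.presheaf, M.isSheaf⟩
    (fun V : {V : X.affineOpens // V.1 ≤ W} => V.1.1) W
    (fun V => homOfLE V.2) (fun x hx => ?_) a b fun V => h V.1 V.2
  obtain ⟨V, hxV, hVW⟩ := exists_affine_le x hx
  exact Opens.mem_iSup.2 ⟨⟨V, hVW⟩, hxV⟩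

include hL in
/-- Functions given chart by chart glue. -/
theorem exists_glue (s : ∀ i : Chart L, Γ(X, i.U.1))
    (h : ∀ (i j : Chart L) (V : X.affineOpens) (hi : V.1 ≤ i.U.1) (hj : V.1 ≤ j.U.1), fres hi (s i) = fres hj (s j)) :
    ∃ S : Γ(X, ⊤), ∀ i, fres (le_top : i.U.1 ≤ ⊤) S = s i := by
  obtain ⟨S, hS, -⟩ := X.sheaf.existsUnique_gluing' (fun i : Chart L => i.U.1) ⊤ (fun _ => homOfLE le_top)
    (iSup_chart hL).ge s (fun i j => eq_of_affines fun V hV => by
      refine Eq.trans ?_ ((h i j V (hV.trans inf_le_left) (hV.trans inf_le_right)).trans ?_)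
      · exact fres_fres _ _ _
      · exact (fres_fres _ _ _).symm)
  exact ⟨S, hS⟩

theorem coeffs_eq_zero [IsReduced X] (hd : 0 < d) (hfield : IsField (Γ(X, ⊤) : Type u)) (E : Γ(cov hL hσ, ⊤))
    (k : Fin d) (hk : IsEmpty (CohB1.tensorPow L k ≅ Coh.structureModule X)) (i : Chart L) :
    coeffs hL hσ hd E i k = 0 := by
  let c : ∀ j : Chart L, Γ(X, j.U.1) := fun j => coeffs hL hσ hd E j k
  let h : ∀ j : Chart L, Γ(X, j.U.1) := fun j => c j ^ d * (((coef hσ j)⁻¹ : Γ(X, j.U.1)ˣ) : Γ(X, j.U.1)) ^ (k : ℕ)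
  obtain ⟨H, hH⟩ := exists_glue hL h (fun i j V hi hj => by
    obtain ⟨u, hu, hc⟩ := exists_transition hσ i j V hi hj
    have hci : fres hi (((coef hσ i)⁻¹ : Γ(X, i.U.1)ˣ) : Γ(X, i.U.1)) * fres hi (coef hσ i : Γ(X, i.U.1)) = 1 := by
      rw [fres, ← map_mul, Units.inv_mul, map_one]
    have hcj : fres hj (((coef hσ j)⁻¹ : Γ(X, j.U.1)ˣ) : Γ(X, j.U.1)) * fres hj (coef hσ j : Γ(X, j.U.1)) = 1 := by
      rw [fres, ← map_mul, Units.inv_mul, map_one]
    have h1 : fres hj (((coef hσ j)⁻¹ : Γ(X, j.U.1)ˣ) : Γ(X, j.U.1)) =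
        fres hi (((coef hσ i)⁻¹ : Γ(X, i.U.1)ˣ) : Γ(X, i.U.1)) * u ^ d := by
      calc _ = fres hj (((coef hσ j)⁻¹ : Γ(X, j.U.1)ˣ) : Γ(X, j.U.1)) *
            (fres hi (((coef hσ i)⁻¹ : Γ(X, i.U.1)ˣ) : Γ(X, i.U.1)) * fres hi (coef hσ i : Γ(X, i.U.1))) := by
            rw [hci, mul_one]
        _ = (fres hj (((coef hσ j)⁻¹ : Γ(X, j.U.1)ˣ) : Γ(X, j.U.1)) * fres hj (coef hσ j : Γ(X, j.U.1))) *
            (fres hi (((coef hσ i)⁻¹ : Γ(X, i.U.1)ˣ) : Γ(X, i.U.1)) * u ^ d) := by rw [hc]; ring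
        _ = _ := by rw [hcj, one_mul]
    simp only [h, fres, map_mul, map_pow] at h1 ⊢
    rw [h1, show X.presheaf.map (homOfLE hi).op (c i) = X.presheaf.map (homOfLE hj).op (c j) * u ^ (k : ℕ) from
      coeffs_trans hL hσ hd E i j V hi hj u hu k]
    ring)
  by_cases hH0 : H = 0
  · have h0 := hH i
    rw [hH0, fres, map_zero] at h0
    exact (pow_eq_zero_iff hd.ne').1 ((IsUnit.mul_left_eq_zero (((coef hσ i)⁻¹).isUnit.pow (k : ℕ))).1 h0.symm)
  · exfalso
    obtain ⟨H', hH'⟩ := hfield.mul_inv_cancel hH0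
    have hu : ∀ j, IsUnit (c j) := fun j => by
      have h1 : IsUnit (h j) := by
        rw [← hH j]
        exact (IsUnit.of_mul_eq_one H' hH').map _
      exact (isUnit_pow_iff hd.ne').1 (isUnit_of_mul_isUnit_left h1)
    let M := CohB1.tensorPow L k
    let n : ∀ j : Chart L, Γ(M, j.U.1) := fun j => c j • Amp73.epow j.e k
    obtain ⟨N, hN, -⟩ := TopCat.Sheaf.existsUnique_gluing' (C := AddCommGrpCat.{u})
      (⟨M.presheaf, M.isSheaf⟩ : TopCat.Sheaf AddCommGrpCat.{u} X) (fun j : Chart L => j.U.1) ⊤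
      (fun _ => homOfLE le_top) (iSup_chart hL).ge n (fun i j => eq_of_affines_mod M fun V hV => by
        show res M hV (res M inf_le_left (n i)) = res M hV (res M inf_le_right (n j))
        rw [res_res, res_res]
        obtain ⟨u, hu, -⟩ := exists_transition hσ i j V (hV.trans inf_le_left) (hV.trans inf_le_right)
        show res M (hV.trans inf_le_left) (c i • Amp73.epow i.e k) = res M (hV.trans inf_le_right) (c j • Amp73.epow j.e k)
        rw [res_smul, res_smul, Amp73.res_epow, Amp73.res_epow, hu, Amp73.epow_smul, smul_smul]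
        congr 1
        exact coeffs_trans hL hσ hd E i j V _ _ u hu k)
    have hNf : IsFrame M ⊤ N := Amp73.isFrame_of_locally N fun x _ => by
      obtain ⟨j, hj⟩ := exists_chart hL x
      refine ⟨j.U.1, le_top, hj, ?_⟩
      rw [show res M (le_top : j.U.1 ≤ ⊤) N = n j from hN j]
      exact (Amp73.isFrame_smul_iff (Amp73.isFrame_epow j.he k) _).2 (hu j)
    haveI := Crv77.isIso_unitHom_of_isFrame hNf
    exact hk.false (asIso (EGA73.unitHom M N)).symm

theorem eq_of_charts (a b : Γ(cov hL hσ, ⊤))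
    (h : ∀ i : Chart L, (cov hL hσ).presheaf.map (homOfLE (le_top : proj hL hσ ⁻¹ᵁ i.U.1 ≤ ⊤)).op a =
      (cov hL hσ).presheaf.map (homOfLE (le_top : proj hL hσ ⁻¹ᵁ i.U.1 ≤ ⊤)).op b) : a = b :=
  (cov hL hσ).sheaf.eq_of_locally_eq' (fun i : Chart L => proj hL hσ ⁻¹ᵁ i.U.1) ⊤ (fun _ => homOfLE le_top)
    (fun v _ => by
      obtain ⟨i, hi⟩ := exists_chart hL (proj hL hσ v)
      exact Opens.mem_iSup.2 ⟨i, hi⟩) a b h

theorem appTop_injective (hd : 0 < d) : Function.Injective (proj hL hσ).appTop := by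
  intro a b hab
  refine X.sheaf.eq_of_locally_eq' (fun i : Chart L => i.U.1) ⊤ (fun _ => homOfLE le_top) (iSup_chart hL).ge a b
    fun i => ?_
  let a' : Γ(X, i.U.1) := fres le_top a
  let b' : Γ(X, i.U.1) := fres le_top b
  have h1 : (proj hL hσ).app i.U.1 a' = (proj hL hσ).app i.U.1 b' := by
    have h := congrArg ((cov hL hσ).presheaf.map (homOfLE ((proj hL hσ).preimage_mono (le_top : i.U.1 ≤ ⊤))).op) hab
    exact (app_fres hL hσ _ a).symm.trans (h.trans (app_fres hL hσ _ b))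
  obtain ⟨k₀⟩ : Nonempty (Fin d) := ⟨⟨0, hd⟩⟩
  have h2 : ∀ x : Γ(X, i.U.1), ∑ k : Fin d, (proj hL hσ).app i.U.1 (if (k : ℕ) = 0 then x else 0) *
      coord hL hσ i.e ^ (k : ℕ) = (proj hL hσ).app i.U.1 x := by
    intro x
    rw [Finset.sum_eq_single (⟨0, hd⟩ : Fin d)]
    · rw [if_pos rfl, pow_zero, mul_one]
    · intro k _ hk
      rw [if_neg fun h => hk (Fin.ext h), map_zero, zero_mul]
    · exact fun h => absurd (Finset.mem_univ _) h
  have h3 := congrFun ((existsUnique_coeffs hL hσ hd i _).unique (h2 a') ((h2 b').trans h1.symm))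
    (⟨0, hd⟩ : Fin d)
  simp only [if_pos] at h3
  exact h3

/-- **Connectedness.** -/
theorem connectedSpace_cov [IsIntegral X] (hd : 0 < d) (hfield : IsField (Γ(X, ⊤) : Type u))
    (hmin : ∀ i : ℕ, 0 < i → i < d → IsEmpty (CohB1.tensorPow L i ≅ Coh.structureModule X)) :
    ConnectedSpace (cov hL hσ) := by
  rw [Stein58.connectedSpace_iff_idempotent_gamma]
  refine ⟨?_, fun E hE => ?_⟩
  · haveI := hfield.nontrivial
    exact (appTop_injective hL hσ hd).nontrivial
  · let c : ∀ i : Chart L, Γ(X, i.U.1) := fun i => coeffs hL hσ hd E i ⟨0, hd⟩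
    obtain ⟨A, hA⟩ := exists_glue hL c (fun i j V hi hj => by
      obtain ⟨u, hu, -⟩ := exists_transition hσ i j V hi hj
      simpa using coeffs_trans hL hσ hd E i j V hi hj u hu ⟨0, hd⟩)
    have hEA : E = (proj hL hσ).appTop A := by
      refine eq_of_charts hL hσ _ _ fun i => ?_
      rw [← coeffs_spec hL hσ hd E i, Finset.sum_eq_single (⟨0, hd⟩ : Fin d)]
      · rw [pow_zero, mul_one]
        refine ((congrArg _ (hA i).symm).trans (app_fres hL hσ (le_top : i.U.1 ≤ ⊤) A).symm)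
      · intro k _ hk
        rw [coeffs_eq_zero hL hσ hd hfield E k
          (hmin k (Nat.pos_of_ne_zero fun h => hk (Fin.ext h)) k.2) i, map_zero, zero_mul]
      · exact fun h => absurd (Finset.mem_univ _) h
    have hA2 : A * A = A := appTop_injective hL hσ hd (by rw [map_mul, ← hEA]; exact hE)
    by_cases hA0 : A = 0
    · exact Or.inl (by rw [hEA, hA0, map_zero])
    · obtain ⟨A', hA'⟩ := hfield.mul_inv_cancel hA0
      refine Or.inr ?_
      have : A = 1 := by
        calc A = A * A * A' := by rw [mul_assoc, hA', mul_one]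
          _ = A * A' := by rw [hA2]
          _ = 1 := hA'
      rw [hEA, this, map_one]

/-- **Triviality of the pullback.** -/
theorem nonempty_pullback_iso (hd : 0 < d) :
    Nonempty ((Scheme.Modules.pullback (proj hL hσ)).obj L ≅ Coh.structureModule (cov hL hσ)) := by
  let g := proj hL hσ
  let G := (Scheme.Modules.pullback g).obj L
  have hy : ∀ i : Chart L, IsUnit (coord hL hσ i.e) := fun i =>
    (isUnit_pow_iff hd.ne').1 (IsUnit.of_mul_eq_one _ ((mul_comm _ _).trans (coord_eq hL hσ i)))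
  choose v hv using fun i : Chart L => (hy i).exists_left_inv
  let n : ∀ i : Chart L, Γ(G, g ⁻¹ᵁ i.U.1) := fun i => v i • Amp73.pullS g L i.U.1 i.e
  obtain ⟨N, hN, -⟩ := TopCat.Sheaf.existsUnique_gluing' (C := AddCommGrpCat.{u})
    (⟨G.presheaf, G.isSheaf⟩ : TopCat.Sheaf AddCommGrpCat.{u} (cov hL hσ)) (fun i : Chart L => g ⁻¹ᵁ i.U.1) ⊤
    (fun _ => homOfLE le_top)
    (fun w _ => by obtain ⟨i, hi⟩ := exists_chart hL (g w); exact Opens.mem_iSup.2 ⟨i, hi⟩) n (fun i j => by
      refine TopCat.Sheaf.eq_of_locally_eq' (C := AddCommGrpCat.{u}) ⟨G.presheaf, G.isSheaf⟩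
        (fun V : {V : X.affineOpens // V.1 ≤ i.U.1 ⊓ j.U.1} => g ⁻¹ᵁ V.1.1) _
        (fun V => homOfLE (g.preimage_mono V.2)) (fun w hw => ?_) _ _ fun V => ?_
      · obtain ⟨V, hxV, hVW⟩ := exists_affine_le (W := i.U.1 ⊓ j.U.1) (g w) hw
        exact Opens.mem_iSup.2 ⟨⟨V, hVW⟩, hxV⟩
      · show res G (g.preimage_mono V.2) (res G _ (n i)) = res G (g.preimage_mono V.2) (res G _ (n j))
        rw [res_res, res_res]
        have hi : V.1.1 ≤ i.U.1 := V.2.trans inf_le_left
        have hj : V.1.1 ≤ j.U.1 := V.2.trans inf_le_right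
        obtain ⟨u, hu, -⟩ := exists_transition hσ i j V.1 hi hj
        show res G (g.preimage_mono hi) (n i) = res G (g.preimage_mono hj) (n j)
        show res G (g.preimage_mono hi) (v i • Amp73.pullS g L i.U.1 i.e) =
          res G (g.preimage_mono hj) (v j • Amp73.pullS g L j.U.1 j.e)
        rw [res_smul, res_smul, Amp73.res_pullS g L hi, Amp73.res_pullS g L hj, hu, Amp73.pullS_smul, smul_smul]
        congr 1
        have e1 : fres (g.preimage_mono hi) (v i) * coord hL hσ (res L hi i.e) = 1 := by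
          rw [← coord_res hL hσ hi, fres, ← map_mul, hv i, map_one]
        have e2 : fres (g.preimage_mono hj) (v j) * coord hL hσ (res L hj j.e) = 1 := by
          rw [← coord_res hL hσ hj, fres, ← map_mul, hv j, map_one]
        rw [hu, coord_smul] at e2
        calc fres (g.preimage_mono hi) (v i) = fres (g.preimage_mono hi) (v i) *
              (fres (g.preimage_mono hj) (v j) * (g.app V.1.1 u * coord hL hσ (res L hi i.e))) := by
              rw [e2, mul_one]
          _ = (fres (g.preimage_mono hi) (v i) * coord hL hσ (res L hi i.e)) *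
              (fres (g.preimage_mono hj) (v j) * g.app V.1.1 u) := by ring
          _ = _ := by rw [e1, one_mul])
  have hNf : IsFrame G ⊤ N := Amp73.isFrame_of_locally N fun w _ => by
    obtain ⟨i, hi⟩ := exists_chart hL (g w)
    refine ⟨g ⁻¹ᵁ i.U.1, le_top, hi, ?_⟩
    rw [show res G (le_top : g ⁻¹ᵁ i.U.1 ≤ ⊤) N = n i from hN i]
    exact (Amp73.isFrame_smul_iff (Props58.PullTensor.isFrame_pullS g i.he) _).2
      (IsUnit.of_mul_eq_one _ (hv i))
  haveI := Crv77.isIso_unitHom_of_isFrame hNf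
  exact ⟨(asIso (EGA73.unitHom G N)).symm⟩

end Groth.Agent.PicCyc25
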