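import Groth.Agent.GIT36.LineBundle.OfModule
import Groth.Agent.Props58.PullTensor
import Mathlib.AlgebraicGeometry.IdealSheaf.Subscheme
import Mathlib.AlgebraicGeometry.Morphisms.ClosedImmersion
import Mathlib.RingTheory.AdjoinRoot

/-! The cyclic cover of a trivialisation of a tensor power: `y ^ d · c = 1` in the total space. -/

set_option autoImplicit false
set_option linter.style.haveILetI false
set_option backward.isDefEq.respectTransparency.types false

universe u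

open CategoryTheory CategoryTheory.Limits AlgebraicGeometry Opposite TopologicalSpace Polynomial
open Groth.Agent.Var76 Groth.Agent.Var76.LineBundle Groth.Agent.Var76.ZeroScheme
open Groth.Agent.GIT36.LineBundle

noncomputable section

namespace Groth.Agent.PicCyc25

variable {X : Scheme.{u}} {L : X.Modules} (hL : PicF.IsInvertible L) {d : ℕ}
  {σ : Γ(CohB1.tensorPow L d, ⊤)} (hσ : IsFrame (CohB1.tensorPow L d) ⊤ σ)

/-- An affine open with a frame. -/
structure Chart (L : X.Modules) where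
  /-- the open -/
  U : X.affineOpens
  /-- the frame -/
  e : Γ(L, U.1)
  he : IsFrame L U.1 e

include hL in
theorem exists_chart (x : X) : ∃ i : Chart L, x ∈ i.U.1 := by
  obtain ⟨W, hx, -, e, he⟩ := Mero90.exists_affine_frame hL x ⊤ trivial
  exact ⟨⟨W, e, he⟩, hx⟩

include hL hσ in
theorem exists_coordF : ∃ (f : Γ(tot hL, ⊤)), ∀ (U : X.Opens) (e : Γ(L, U)), IsFrame L U e → ∀ c : Γ(X, U),
    c • Amp73.epow e d = res _ le_top σ →
    (tot hL).presheaf.map (homOfLE le_top).op f = (totπ hL).app U c * coordOf hL e ^ d := by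
  let I := Σ U : X.Opens, {e : Γ(L, U) // IsFrame L U e}
  have hc' : ∀ i : I, ∃ c : Γ(X, i.1), c • Amp73.epow i.2.1 d = res _ (le_top : i.1 ≤ ⊤) σ := fun i => by
    obtain ⟨c, hc⟩ := ((Amp73.isFrame_epow i.2.2 d) i.1 le_rfl).2 (res _ (le_top : i.1 ≤ ⊤) σ)
    dsimp only at hc
    rw [Amp73.res_self] at hc
    exact ⟨c, hc⟩
  choose c hc using hc'
  let sec : ∀ i : I, Γ(tot hL, totπ hL ⁻¹ᵁ i.1) := fun i => (totπ hL).app i.1 (c i) * coordOf hL i.2.1 ^ d
  have hcov : (⊤ : (tot hL).Opens) ≤ ⨆ i : I, totπ hL ⁻¹ᵁ i.1 := fun v _ => by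
    obtain ⟨W, hvW, -, e, he⟩ := Mero90.exists_affine_frame hL (totπ hL v) ⊤ trivial
    exact Opens.mem_iSup.mpr ⟨⟨W.1, e, he⟩, hvW⟩
  have hcomp : TopCat.Presheaf.IsCompatible (tot hL).presheaf (fun i : I => totπ hL ⁻¹ᵁ i.1) sec := by
    intro i i'
    obtain ⟨w, hw, hwe⟩ := exists_unit_coordOf i.2.2 i'.2.2
    have hcc : fres (inf_le_left : i.1 ⊓ i'.1 ≤ i.1) (c i) = fres inf_le_right (c i') * w ^ d := by
      have h1 := congrArg (res _ (inf_le_left : i.1 ⊓ i'.1 ≤ i.1)) (hc i)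
      have h2 := congrArg (res _ (inf_le_right : i.1 ⊓ i'.1 ≤ i'.1)) (hc i')
      rw [res_smul, Amp73.res_epow, res_res] at h1 h2
      rw [hwe, Amp73.epow_smul, smul_smul, ← h1] at h2
      have hf := Amp73.isFrame_epow (i.2.2.res (inf_le_left : i.1 ⊓ i'.1 ≤ i.1)) d
      refine ((hf _ le_rfl).1 ?_).symm
      dsimp only
      rw [Amp73.res_self]
      exact h2
    change (tot hL).presheaf.map (homOfLE ((totπ hL).preimage_mono inf_le_left)).op (sec i) =
      (tot hL).presheaf.map (homOfLE ((totπ hL).preimage_mono inf_le_right)).op (sec i')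
    simp only [sec]
    rw [map_mul, map_mul, map_pow, map_pow]
    erw [app_map (totπ hL) (inf_le_left : i.1 ⊓ i'.1 ≤ i.1), app_map (totπ hL) (inf_le_right : i.1 ⊓ i'.1 ≤ i'.1),
      coordOf_res hL (inf_le_left : i.1 ⊓ i'.1 ≤ i.1), coordOf_res hL (inf_le_right : i.1 ⊓ i'.1 ≤ i'.1)]
    rw [hwe, coordOf_smul, mul_pow, ← mul_assoc, ← map_pow, ← map_mul]
    exact congrArg (fun z => (totπ hL).app _ z * _) hcc
  obtain ⟨f, hf, -⟩ := (tot hL).sheaf.existsUnique_gluing' (fun i : I => totπ hL ⁻¹ᵁ i.1) ⊤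
    (fun i => homOfLE le_top) hcov sec hcomp
  have hf' : ∀ i : I, (tot hL).presheaf.map (homOfLE le_top).op f = sec i := hf
  refine ⟨f, fun U e he c' hc' => ?_⟩
  have : c' = c ⟨U, e, he⟩ := by
    refine ((Amp73.isFrame_epow he d) U le_rfl).1 ?_
    dsimp only
    rw [Amp73.res_self, hc', hc ⟨U, e, he⟩]
  rw [this]
  exact hf' ⟨U, e, he⟩

include hσ in
theorem exists_coef (i : Chart L) :
    ∃ c : Γ(X, i.U.1)ˣ, (c : Γ(X, i.U.1)) • Amp73.epow i.e d = res _ (le_top : i.U.1 ≤ ⊤) σ := by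
  obtain ⟨c, hc⟩ := ((Amp73.isFrame_epow i.he d) i.U.1 le_rfl).2 (res _ (le_top : i.U.1 ≤ ⊤) σ)
  dsimp only at hc
  rw [Amp73.res_self] at hc
  have hu : IsUnit c := (Amp73.isFrame_smul_iff (Amp73.isFrame_epow i.he d) c).1 (hc.symm ▸ hσ.res le_top)
  exact ⟨hu.unit, hc⟩

/-- The coefficient of the trivialisation in a chart. -/
def coef (i : Chart L) : Γ(X, i.U.1)ˣ := Classical.choose (exists_coef hσ i)

theorem coef_spec (i : Chart L) :
    (coef hσ i : Γ(X, i.U.1)) • Amp73.epow i.e d = res _ (le_top : i.U.1 ≤ ⊤) σ :=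
  Classical.choose_spec (exists_coef hσ i)

/-- The function on the total space. -/
def fn : Γ(tot hL, ⊤) := Classical.choose (exists_coordF hL hσ)

theorem fn_spec (i : Chart L) : (tot hL).presheaf.map (homOfLE le_top).op (fn hL hσ) =
    (totπ hL).app i.U.1 (coef hσ i) * coordOf hL i.e ^ d :=
  Classical.choose_spec (exists_coordF hL hσ) i.U.1 i.e i.he _ (coef_spec hσ i)

/-- The ideal of the cover. -/
def idl : (tot hL).IdealSheafData := Scheme.IdealSheafData.ofIdealTop (Ideal.span {fn hL hσ - 1})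

/-- The cover. -/
def cov : Scheme.{u} := (idl hL hσ).subscheme

/-- The projection. -/
def proj : cov hL hσ ⟶ X := (idl hL hσ).subschemeι ≫ totπ hL

instance : IsAffineHom (proj hL hσ) := by
  haveI : IsAffineHom (idl hL hσ).subschemeι := inferInstance
  exact inferInstanceAs (IsAffineHom ((idl hL hσ).subschemeι ≫ totπ hL))

/-- The coordinate. -/
def coord {U : X.Opens} (e : Γ(L, U)) : Γ(cov hL hσ, proj hL hσ ⁻¹ᵁ U) :=
  (idl hL hσ).subschemeι.app (totπ hL ⁻¹ᵁ U) (coordOf hL e)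

theorem proj_app {U : X.Opens} (a : Γ(X, U)) :
    (proj hL hσ).app U a = (idl hL hσ).subschemeι.app (totπ hL ⁻¹ᵁ U) ((totπ hL).app U a) :=
  ConcreteCategory.congr_hom (Scheme.Hom.comp_app (idl hL hσ).subschemeι (totπ hL) U) a

theorem coord_smul {U : X.Opens} (a : Γ(X, U)) (e : Γ(L, U)) :
    coord hL hσ (a • e) = (proj hL hσ).app U a * coord hL hσ e := by
  rw [proj_app, coord, coordOf_smul, map_mul]
  rfl

theorem coord_res {U W : X.Opens} (h : W ≤ U) (e : Γ(L, U)) :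
    (cov hL hσ).presheaf.map (homOfLE ((proj hL hσ).preimage_mono h)).op (coord hL hσ e) =
      coord hL hσ (res L h e) := by
  rw [coord, coord, ← coordOf_res hL h]
  exact (ConcreteCategory.congr_hom ((idl hL hσ).subschemeι.naturality
    (homOfLE ((totπ hL).preimage_mono h)).op) _).symm

theorem idl_ideal (i : Chart L) :
    (idl hL hσ).ideal ⟨totπ hL ⁻¹ᵁ i.U.1, i.U.2.preimage (totπ hL)⟩ =
      Ideal.span {(totπ hL).app i.U.1 (coef hσ i) * coordOf hL i.e ^ d - 1} := by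
  rw [idl, Scheme.IdealSheafData.ofIdealTop_ideal, Ideal.map_span, Set.image_singleton, map_sub, map_one]
  congr 2
  rw [← fn_spec hL hσ i]

theorem coord_eq (i : Chart L) :
    (proj hL hσ).app i.U.1 (coef hσ i) * coord hL hσ i.e ^ d = 1 := by
  have h : (totπ hL).app i.U.1 (coef hσ i) * coordOf hL i.e ^ d - 1 ∈
      (idl hL hσ).ideal ⟨totπ hL ⁻¹ᵁ i.U.1, i.U.2.preimage (totπ hL)⟩ := by
    rw [idl_ideal]
    exact Ideal.mem_span_singleton_self _
  rw [← (idl hL hσ).ker_subschemeι_app ⟨totπ hL ⁻¹ᵁ i.U.1, i.U.2.preimage (totπ hL)⟩, RingHom.mem_ker,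
    map_sub, map_mul, map_pow, map_one, sub_eq_zero] at h
  rw [proj_app]
  exact h

/-- The Kummer polynomial of a chart. -/
abbrev pol (i : Chart L) : Γ(X, i.U.1)[X] :=
  Polynomial.X ^ d - Polynomial.C ((coef hσ i)⁻¹ : Γ(X, i.U.1)ˣ).1

theorem eval_pol (i : Chart L) :
    (pol hσ i).eval₂ ((proj hL hσ).app i.U.1).hom (coord hL hσ i.e) = 0 := by
  rw [eval₂_sub, eval₂_X_pow, eval₂_C, sub_eq_zero]
  refine ((coef hσ i).isUnit.map ((proj hL hσ).app i.U.1).hom).mul_left_cancel ?_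
  rw [coord_eq hL hσ i, ← map_mul, Units.mul_inv, map_one]

/-- The chart map. -/
def chartHom (i : Chart L) : AdjoinRoot (pol hσ i) →+* Γ(cov hL hσ, proj hL hσ ⁻¹ᵁ i.U.1) :=
  AdjoinRoot.lift ((proj hL hσ).app i.U.1).hom (coord hL hσ i.e) (eval_pol hL hσ i)

theorem chartHom_bijective (i : Chart L) : Function.Bijective (chartHom hL hσ i) := by
  let A := Γ(X, i.U.1)
  let V : (tot hL).affineOpens := ⟨totπ hL ⁻¹ᵁ i.U.1, i.U.2.preimage (totπ hL)⟩
  let ev : A[X] →+* Γ(tot hL, totπ hL ⁻¹ᵁ i.U.1) := eval₂RingHom ((totπ hL).app i.U.1).hom (coordOf hL i.e)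
  have hev : Function.Bijective ev := by
    have h := bijective_evalAt_coordOf hL i.he i.U.2 (le_refl i.U.1)
    have e1 : (tot hL).presheaf.map (homOfLE ((totπ hL).preimage_mono (le_refl i.U.1))).op (coordOf hL i.e) =
        coordOf hL i.e :=
      ConcreteCategory.congr_hom ((tot hL).presheaf.map_id (op (totπ hL ⁻¹ᵁ i.U.1))) (coordOf hL i.e)
    have : evalAt (totπ hL) (coordOf hL i.e) (le_refl i.U.1) = ev := by
      show eval₂RingHom _ _ = eval₂RingHom _ _
      rw [e1]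
    rwa [this] at h
  have hcomp : ∀ p : A[X], chartHom hL hσ i (AdjoinRoot.mk _ p) = (idl hL hσ).subschemeι.app V.1 (ev p) := by
    intro p
    rw [chartHom, AdjoinRoot.lift_mk]
    show _ = (idl hL hσ).subschemeι.app V.1 (eval₂ _ _ p)
    erw [Polynomial.hom_eval₂]
    refine eval₂_congr ?_ rfl rfl
    ext a
    exact proj_app hL hσ a
  refine ⟨(injective_iff_map_eq_zero _).2 fun z hz => ?_, fun w => ?_⟩
  · obtain ⟨p, rfl⟩ := AdjoinRoot.mk_surjective z
    rw [hcomp] at hz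
    have h1 : ev p ∈ (idl hL hσ).ideal V := by
      rw [← (idl hL hσ).ker_subschemeι_app V]; exact hz
    rw [show (idl hL hσ).ideal V = _ from idl_ideal hL hσ i, Ideal.mem_span_singleton] at h1
    obtain ⟨w, hw⟩ := h1
    obtain ⟨q, rfl⟩ := hev.2 w
    have h2 : (totπ hL).app i.U.1 (coef hσ i) * coordOf hL i.e ^ d - 1 =
        ev (Polynomial.C (coef hσ i : A) * Polynomial.X ^ d - 1) := by
      rw [map_sub, map_mul, map_pow, map_one]
      show _ = eval₂ _ _ (Polynomial.C _) * eval₂ _ _ Polynomial.X ^ d - 1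
      rw [eval₂_C, eval₂_X]
    rw [h2, ← map_mul] at hw
    rw [AdjoinRoot.mk_eq_zero, hev.1 hw]
    refine Dvd.dvd.mul_right ⟨Polynomial.C (coef hσ i : A), ?_⟩ q
    rw [sub_mul, ← Polynomial.C_mul, Units.inv_mul, Polynomial.C_1, mul_comm]
  · obtain ⟨v, rfl⟩ := (idl hL hσ).subschemeι_app_surjective V w
    obtain ⟨p, rfl⟩ := hev.2 v
    exact ⟨AdjoinRoot.mk _ p, hcomp p⟩

theorem chartHom_of (i : Chart L) (a : Γ(X, i.U.1)) :
    chartHom hL hσ i (AdjoinRoot.of _ a) = (proj hL hσ).app i.U.1 a :=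
  AdjoinRoot.lift_of _

theorem chartHom_root (i : Chart L) :
    chartHom hL hσ i (AdjoinRoot.root _) = coord hL hσ i.e :=
  AdjoinRoot.lift_root _

end Groth.Agent.PicCyc25
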