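import Groth.Agent.PicCyc25.Cover
import Groth.Agent.S14457
import Groth.Prelude.Def_Mor2
import Mathlib.AlgebraicGeometry.Morphisms.Etale
import Mathlib.AlgebraicGeometry.Morphisms.FlatRank
import Mathlib.AlgebraicGeometry.Morphisms.Finite
import Mathlib.RingTheory.Finiteness.Nakayama

/-! Local structure of the cyclic cover: finite locally free of degree `d`, étale when `d` is invertible. -/

set_option autoImplicit false
set_option linter.style.haveILetI false
set_option backward.isDefEq.respectTransparency.types false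

universe u

open CategoryTheory CategoryTheory.Limits AlgebraicGeometry Opposite TopologicalSpace Polynomial
open Groth.Agent.Var76 Groth.Agent.Var76.LineBundle Groth.Agent.Var76.ZeroScheme

noncomputable section

namespace Groth.Agent.PicCyc25

variable {X : Scheme.{u}}

/-- An affine morphism over an affine open is `Spec` of the map of functions. -/
theorem morphismRestrict_eq {Y : Scheme.{u}} (g : Y ⟶ X) {U : X.Opens} (hU : IsAffineOpen U)
    (hV : IsAffineOpen (g ⁻¹ᵁ U)) : g ∣_ U = hV.isoSpec.hom ≫ Spec.map (g.app U) ≫ hU.isoSpec.inv := by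
  rw [← cancel_mono U.ι, morphismRestrict_ι, Category.assoc, Category.assoc,
    show hU.isoSpec.inv ≫ U.ι = hU.fromSpec from rfl, g.app_eq_appLE, hU.SpecMap_appLE_fromSpec g hV le_rfl,
    ← Category.assoc, hV.isoSpec_hom_fromSpec]

variable {L : X.Modules} (hL : PicF.IsInvertible L) {d : ℕ}
  {σ : Γ(CohB1.tensorPow L d, ⊤)} (hσ : IsFrame (CohB1.tensorPow L d) ⊤ σ)

theorem monic_pol (hd : 0 < d) (i : Chart L) : (pol hσ i).Monic := monic_X_pow_sub_C _ hd.ne'

theorem app_eq (i : Chart L) :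
    ((proj hL hσ).app i.U.1).hom =
      (RingEquiv.ofBijective _ (chartHom_bijective hL hσ i)).toRingHom.comp
        (algebraMap Γ(X, i.U.1) (AdjoinRoot (pol hσ i))) :=
  RingHom.ext fun a => (chartHom_of hL hσ i a).symm

theorem app_finite (hd : 0 < d) (i : Chart L) : ((proj hL hσ).app i.U.1).hom.Finite := by
  rw [app_eq]
  haveI : Module.Finite Γ(X, i.U.1) (AdjoinRoot (pol hσ i)) := (monic_pol hσ hd i).finite_adjoinRoot
  exact RingHom.finite_respectsIso.1 _ _ (RingHom.finite_algebraMap.2 inferInstance)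

theorem app_flat (hd : 0 < d) (i : Chart L) : ((proj hL hσ).app i.U.1).hom.Flat := by
  rw [app_eq]
  haveI : Module.Free Γ(X, i.U.1) (AdjoinRoot (pol hσ i)) := (monic_pol hσ hd i).free_adjoinRoot
  exact RingHom.Flat.respectsIso.1 _ _ (RingHom.flat_algebraMap_iff.2 inferInstance)

theorem app_finitePresentation (hd : 0 < d) (i : Chart L) :
    ((proj hL hσ).app i.U.1).hom.FinitePresentation := by
  rw [app_eq]
  haveI : Module.Finite Γ(X, i.U.1) (AdjoinRoot (pol hσ i)) := (monic_pol hσ hd i).finite_adjoinRoot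
  haveI : Module.Free Γ(X, i.U.1) (AdjoinRoot (pol hσ i)) := (monic_pol hσ hd i).free_adjoinRoot
  haveI : Algebra.FinitePresentation Γ(X, i.U.1) (AdjoinRoot (pol hσ i)) := inferInstance
  exact RingHom.finitePresentation_respectsIso.1 _ _ (RingHom.finitePresentation_algebraMap.2 inferInstance)

theorem app_etale (hd : 0 < d) (hu : IsUnit ((d : ℕ) : Γ(X, ⊤))) (i : Chart L) :
    ((proj hL hσ).app i.U.1).hom.Etale := by
  rw [app_eq]
  have hu' : IsUnit ((d : ℕ) : Γ(X, i.U.1)) := by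
    have h := hu.map (X.presheaf.map (homOfLE (le_top : i.U.1 ≤ ⊤)).op).hom
    rwa [map_natCast] at h
  haveI : Algebra.Etale Γ(X, i.U.1) (AdjoinRoot (pol hσ i)) :=
    (Groth.Agent.S14457.result _ _ d hd).mpr (Or.inr (hu'.mul ((coef hσ i)⁻¹).isUnit))
  exact RingHom.Etale.respectsIso.1 _ _ (RingHom.etale_algebraMap.mpr inferInstance)

include hL in
theorem iSup_chart : ⨆ i : Chart L, (i.U.1 : X.Opens) = ⊤ := by
  refine top_le_iff.1 fun x _ => ?_
  obtain ⟨i, hi⟩ := exists_chart hL x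
  exact Opens.mem_iSup.2 ⟨i, hi⟩

theorem prop_of_charts (P : MorphismProperty Scheme.{u}) [IsZariskiLocalAtTarget P] [P.RespectsIso]
    (h : ∀ i : Chart L, P (Spec.map ((proj hL hσ).app i.U.1))) : P (proj hL hσ) := by
  refine IsZariskiLocalAtTarget.of_iSup_eq_top (P := P) (fun i : Chart L => i.U.1) (iSup_chart hL) fun i => ?_
  rw [morphismRestrict_eq _ i.U.2 (i.U.2.preimage _), P.cancel_left_of_respectsIso, P.cancel_right_of_respectsIso]
  exact h i

theorem isFinite_proj (hd : 0 < d) : IsFinite (proj hL hσ) :=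
  prop_of_charts hL hσ @IsFinite fun i => (IsFinite.SpecMap_iff _).2 (app_finite hL hσ hd i)

theorem flat_proj (hd : 0 < d) : Flat (proj hL hσ) :=
  prop_of_charts hL hσ @Flat fun i => Flat.SpecMap_iff.2 (app_flat hL hσ hd i)

theorem lfp_proj (hd : 0 < d) : LocallyOfFinitePresentation (proj hL hσ) :=
  prop_of_charts hL hσ @LocallyOfFinitePresentation fun i =>
    (LocallyOfFinitePresentation.SpecMap_iff _).2 (app_finitePresentation hL hσ hd i)

theorem etale_proj (hd : 0 < d) (hu : IsUnit ((d : ℕ) : Γ(X, ⊤))) : Etale (proj hL hσ) :=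
  prop_of_charts hL hσ @Etale fun i =>
    (HasRingHomProperty.Spec_iff (P := @Etale)).2 (app_etale hL hσ hd hu i)

theorem finrank_proj (hd : 0 < d) (x : X) : (proj hL hσ).finrank x = d := by
  obtain ⟨i, hi⟩ := exists_chart hL x
  haveI := isFinite_proj hL hσ hd
  haveI := flat_proj hL hσ hd
  have hf := app_finite hL hσ hd i
  have hfl := app_flat hL hσ hd i
  haveI : Nontrivial Γ(X, i.U.1) := (X.presheaf.germ i.U.1 x hi).hom.domain_nontrivial
  haveI : IsFinite (Spec.map ((proj hL hσ).app i.U.1)) := (IsFinite.SpecMap_iff _).2 hf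
  haveI : Flat (Spec.map ((proj hL hσ).app i.U.1)) := Flat.SpecMap_iff.2 hfl
  have h1 := Scheme.Hom.finrank_of_isPullback _ _ _ _
    (isPullback_morphismRestrict (proj hL hσ) i.U.1).flip ⟨x, hi⟩
  rw [show i.U.1.ι ⟨x, hi⟩ = x from rfl] at h1
  rw [← h1, morphismRestrict_eq _ i.U.2 (i.U.2.preimage _), Scheme.Hom.finrank_comp_left_of_isIso]
  have h2 : IsPullback (𝟙 _) (Spec.map ((proj hL hσ).app i.U.1))
      (Spec.map ((proj hL hσ).app i.U.1) ≫ i.U.2.isoSpec.inv) i.U.2.isoSpec.inv :=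
    IsPullback.of_horiz_isIso ⟨by rw [Category.id_comp]⟩
  haveI : IsFinite (Spec.map ((proj hL hσ).app i.U.1) ≫ i.U.2.isoSpec.inv) := inferInstance
  haveI : Flat (Spec.map ((proj hL hσ).app i.U.1) ≫ i.U.2.isoSpec.inv) := inferInstance
  have h3 := Scheme.Hom.finrank_of_isPullback _ _ _ _ h2 (i.U.2.isoSpec.hom ⟨x, hi⟩)
  rw [← Scheme.Hom.comp_apply, Iso.hom_inv_id] at h3
  rw [show (⟨x, hi⟩ : i.U.1) = (𝟙 (i.U.1 : Scheme.{u}) : _ ⟶ _) ⟨x, hi⟩ from rfl, ← h3,
    Scheme.Hom.finrank_SpecMap_eq_finrank hf hfl]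
  letI := ((proj hL hσ).app i.U.1).hom.toAlgebra
  show Module.rankAtStalk Γ(cov hL hσ, proj hL hσ ⁻¹ᵁ i.U.1) (i.U.2.isoSpec.hom ⟨x, hi⟩) = d
  let pb := AdjoinRoot.powerBasis' (monic_pol hσ hd i)
  let e : AdjoinRoot (pol hσ i) ≃ₗ[Γ(X, i.U.1)] Γ(cov hL hσ, proj hL hσ ⁻¹ᵁ i.U.1) :=
    (AlgEquiv.ofBijective
      ({ chartHom hL hσ i with commutes' := fun a => chartHom_of hL hσ i a } :
        AdjoinRoot (pol hσ i) →ₐ[Γ(X, i.U.1)] _) (chartHom_bijective hL hσ i)).toLinearEquiv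
  haveI : Module.Free Γ(X, i.U.1) Γ(cov hL hσ, proj hL hσ ⁻¹ᵁ i.U.1) := Module.Free.of_basis (pb.basis.map e)
  haveI : Module.Finite Γ(X, i.U.1) Γ(cov hL hσ, proj hL hσ ⁻¹ᵁ i.U.1) := Module.Finite.of_basis (pb.basis.map e)
  rw [Module.rankAtStalk_eq_finrank_of_free]
  show Module.finrank Γ(X, i.U.1) Γ(cov hL hσ, proj hL hσ ⁻¹ᵁ i.U.1) = d
  rw [
    Module.finrank_eq_card_basis (pb.basis.map e), Fintype.card_fin, AdjoinRoot.powerBasis'_dim,
    natDegree_X_pow_sub_C]

theorem isFinLocFreeOfDeg_proj (hd : 0 < d) : Mor2.IsFinLocFreeOfDeg d (proj hL hσ) :=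
  ⟨⟨isFinite_proj hL hσ hd, flat_proj hL hσ hd, lfp_proj hL hσ hd⟩, finrank_proj hL hσ hd⟩

end Groth.Agent.PicCyc25
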